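import Groth.Agent.TF7.Ascent.Semistable
import Groth.Agent.TF7.Iterate.Generic
import Groth.Agent.Coherent.FinitePres
import Groth.Agent.CAlgSmall.FPExtend

/-!
# Geometric fibres of a family over a discrete valuation ring
-/

set_option autoImplicit false
set_option linter.style.haveILetI false
set_option backward.isDefEq.respectTransparency.types false
set_option backward.isDefEq.respectTransparency false
set_option maxHeartbeats 1000000

universe u

open CategoryTheory CategoryTheory.Limits AlgebraicGeometry Opposite TopologicalSpace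
open Groth.Agent.OmegaLib Groth.Agent.Coherent Groth.Agent.EulerLib

noncomputable section

namespace Groth.Agent.TF7

/-- Rewriting a pullback along a factorisation. -/
def pullFactor {Y Z X : Scheme.{u}} {g : Y ⟶ X} {l : Y ⟶ Z} {i : Z ⟶ X} (h : l ≫ i = g) (M : X.Modules) :
    (Scheme.Modules.pullback l).obj ((Scheme.Modules.pullback i).obj M) ≅ (Scheme.Modules.pullback g).obj M :=
  (Scheme.Modules.pullbackComp l i).app M ≪≫ (Scheme.Modules.pullbackCongr h).app M

variable {R : Type u} [CommRing R] [IsDomain R] [IsDiscreteValuationRing R] {X : Scheme.{u}}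
  {f : X ⟶ Spec (CommRingCat.of R)} {Xs : Scheme.{u}}
  [Xs.Over (Spec (CommRingCat.of (IsLocalRing.ResidueField R)))] {i : Xs ⟶ X}
  {Xg : Scheme.{u}} [Xg.Over (Spec (CommRingCat.of (FractionRing R)))] {j : Xg ⟶ X}

local notation "κ" => IsLocalRing.ResidueField R
local notation "qs" => Xs ↘ Spec (CommRingCat.of (IsLocalRing.ResidueField R))
local notation "qg" => Xg ↘ Spec (CommRingCat.of (FractionRing R))

/-- A geometric fibre lies over the closed point or over the generic one. -/
theorem fibre_cases (hsq : IsPullback i qs f (Spec.map (CommRingCat.ofHom (IsLocalRing.residue R))))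
    (hgen : IsPullback j qg f (Spec.map (CommRingCat.ofHom (algebraMap R (FractionRing R)))))
    {Ω : Type u} [Field Ω] {t : Spec (CommRingCat.of Ω) ⟶ Spec (CommRingCat.of R)} {Y : Scheme.{u}} {g : Y ⟶ X}
    {qY : Y ⟶ Spec (CommRingCat.of Ω)} (hY : IsPullback g qY f t) :
    (∃ (ψ : κ →+* Ω) (l : Y ⟶ Xs), l ≫ i = g ∧ IsPullback l qY qs (Spec.map (CommRingCat.ofHom ψ))) ∨
      ∃ (ψ : FractionRing R →+* Ω) (l : Y ⟶ Xg), l ≫ j = g ∧
        IsPullback l qY qg (Spec.map (CommRingCat.ofHom ψ)) := by
  obtain ⟨φ', rfl⟩ := Spec.map_surjective t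
  let φ : R →+* Ω := φ'.hom
  by_cases hφ : Function.Injective φ
  · obtain ⟨l, hl, hlsq⟩ := exists_lift_generic f hgen φ hφ hY
    exact Or.inr ⟨_, l, hl, hlsq⟩
  · have hker : RingHom.ker φ = IsLocalRing.maximalIdeal R := by
      haveI : (RingHom.ker φ).IsPrime := RingHom.ker_isPrime φ
      have hne : RingHom.ker φ ≠ ⊥ := fun h => hφ ((RingHom.injective_iff_ker_eq_bot φ).2 h)
      exact IsLocalRing.eq_maximalIdeal (Ideal.IsPrime.isMaximal inferInstance hne)
    let ψ : κ →+* Ω := Ideal.Quotient.lift (IsLocalRing.maximalIdeal R) φ fun a ha => by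
      rwa [← RingHom.mem_ker, hker]
    have e : Spec.map (CommRingCat.ofHom ψ) ≫ Spec.map (CommRingCat.ofHom (IsLocalRing.residue R)) = Spec.map φ' := by
      rw [← Spec.map_comp, ← CommRingCat.ofHom_comp]
      rfl
    let l : Y ⟶ Xs := hsq.lift g (qY ≫ Spec.map (CommRingCat.ofHom ψ)) (by rw [hY.w, Category.assoc, e])
    refine Or.inl ⟨ψ, l, hsq.lift_fst _ _ _, IsPullback.of_right ?_ (hsq.lift_snd _ _ _) hsq⟩
    rw [hsq.lift_fst, e]
    exact hY

variable [Flat f] [IsProper f] [IsReduced Xs]

/-- The starting point of the iteration. -/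
theorem good_self (hsq : IsPullback i qs f (Spec.map (CommRingCat.ofHom (IsLocalRing.residue R))))
    (hgi : ∀ (C : Set Xs) (hC : C ∈ irreducibleComponents (Xs : Type u)), GeometricallyIntegral
      (VecSt.subschι Xs C (isClosed_of_mem_irreducibleComponents C hC) ≫ qs))
    {I : X.Modules} (hI : TFOne.IsRelTF1 f I) {d : ℤ}
    (hχ : Curv2.euler κ Xs ((Scheme.Modules.pullback i).obj I) = d) : Good f i j I d I := by
  haveI : IsLocallyNoetherian X := LocallyOfFiniteType.isLocallyNoetherian f
  have hIc : Coh.IsCoh I := ⟨CAlgSmall.FPExtend.isQCoh_of_isFP I hI.2.1, CAlgSmall.FPExtend.isFT_of_isFP I hI.2.1⟩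
  refine ⟨hIc, hI.1, ?_, hχ, ⟨Iso.refl _⟩⟩
  haveI : IsProper qs := MorphismProperty.of_isPullback hsq inferInstance
  haveI := isNoetherian_of_proper (X := Xs) κ
  haveI := geometricallyReduced_of_components _ hgi
  let Ω := AlgebraicClosure κ
  let ψ : κ →+* Ω := algebraMap κ Ω
  let Y := pullback qs (Spec.map (CommRingCat.ofHom ψ))
  let g : Y ⟶ Xs := pullback.fst _ _
  haveI : IsReduced Y := GeometricallyReduced.geometrically_isReduced (f := qs) _ _ _ (IsPullback.of_hasPullback _ _)
  refine isTF1_of_pullback (g := g) (IsPullback.of_hasPullback qs (Spec.map (CommRingCat.ofHom ψ)))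
    (CycLib28.InterSheaf.isCoh_pullback i hIc) ?_
  exact isTF1_of_iso (pullFactor rfl I).symm
    (hI.2.2 Ω _ Y (g ≫ i) (pullback.snd _ _) ((IsPullback.of_hasPullback _ _).paste_horiz hsq))

/-- The fibrewise properties of an extension. -/
theorem isRelTF1_of_good (hsq : IsPullback i qs f (Spec.map (CommRingCat.ofHom (IsLocalRing.residue R))))
    (hpure : ∀ C ∈ irreducibleComponents (Xs : Type u), topologicalKrullDim C = 1)
    (hgi : ∀ (C : Set Xs) (hC : C ∈ irreducibleComponents (Xs : Type u)), GeometricallyIntegral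
      (VecSt.subschι Xs C (isClosed_of_mem_irreducibleComponents C hC) ≫ qs))
    (hgen : IsPullback j qg f (Spec.map (CommRingCat.ofHom (algebraMap R (FractionRing R)))))
    {I J : X.Modules} (hI : TFOne.IsRelTF1 f I) {d : ℤ} (hJ : Good f i j I d J) : TFOne.IsRelTF1 f J := by
  haveI : IsLocallyNoetherian X := LocallyOfFiniteType.isLocallyNoetherian f
  haveI : IsProper qs := MorphismProperty.of_isPullback hsq inferInstance
  refine ⟨hJ.flat, Coherent.isFP_of_isCoh hJ.coh, fun Ω _ _ t Y g qY hY => ?_⟩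
  haveI := (generic_fibre_props f hsq hpure hgi hY).1
  rcases fibre_cases hsq hgen hY with ⟨ψ, l, hl, hlsq⟩ | ⟨ψ, l, hl, hlsq⟩
  · exact isTF1_of_iso (pullFactor hl J) (isTF1_pullback_field hlsq hJ.tf)
  · obtain ⟨e⟩ := hJ.gen
    exact isTF1_of_iso ((pullFactor hl I).symm ≪≫ (Scheme.Modules.pullback l).mapIso e.symm ≪≫ pullFactor hl J)
      (hI.2.2 Ω t Y g qY hY)

/-- Fibrewise semistability of an extension semistable on the closed fibre. -/
theorem fibSemistable_of_good (hsq : IsPullback i qs f (Spec.map (CommRingCat.ofHom (IsLocalRing.residue R))))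
    (hpure : ∀ C ∈ irreducibleComponents (Xs : Type u), topologicalKrullDim C = 1)
    (hgi : ∀ (C : Set Xs) (hC : C ∈ irreducibleComponents (Xs : Type u)), GeometricallyIntegral
      (VecSt.subschι Xs C (isClosed_of_mem_irreducibleComponents C hC) ≫ qs))
    (hgen : IsPullback j qg f (Spec.map (CommRingCat.ofHom (algebraMap R (FractionRing R)))))
    {I J E : X.Modules} {r : ℕ} (hE : FlatMod.IsFinLocFreeOfRank r E) {d : ℤ} (hJ : Good f i j I d J)
    (hs : TFOne.IsSemistable Xs κ qs ((Scheme.Modules.pullback i).obj J) ((Scheme.Modules.pullback i).obj E) r)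
    (hIg : TFOne.FibSemistable qg ((Scheme.Modules.pullback j).obj I) ((Scheme.Modules.pullback j).obj E) r) :
    TFOne.FibSemistable f J E r := by
  intro Ω _ _ t Y g qY hY
  haveI : IsProper qs := MorphismProperty.of_isPullback hsq inferInstance
  haveI := isNoetherian_of_proper (X := Xs) κ
  obtain ⟨hred, hdim, hprop⟩ := generic_fibre_props f hsq hpure hgi hY
  haveI := hred
  haveI := hprop
  letI : Y.Over (Spec (CommRingCat.of Ω)) := ⟨qY⟩
  haveI : IsProper (Y ↘ Spec (CommRingCat.of Ω)) := hprop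
  rcases fibre_cases hsq hgen hY with ⟨ψ, l, hl, hlsq⟩ | ⟨ψ, l, hl, hlsq⟩
  · exact isSemistable_congr Ω (pullFactor hl J) (pullFactor hl E)
      (isSemistable_pullback hlsq hgi (dim_le_one_of_pure hpure) hdim
        (GrassLib.isFinLocFreeOfRank_pullback i hE) hs)
  · obtain ⟨e⟩ := hJ.gen
    exact isSemistable_congr Ω ((Scheme.Modules.pullback l).mapIso e.symm ≪≫ pullFactor hl J) (pullFactor hl E)
      (hIg Ω _ Y l qY hlsq)

end Groth.Agent.TF7
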